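import Mathlib

/-!
# An abstract cyclicity criterion (helper9)

If `δ : G →+ H` is surjective with kernel `n G`, every element of `G` is `n • w + k • g` and
`k • g ∈ n G` only for `n ∣ k`, then `H ≃+ ZMod n`.
-/

set_option autoImplicit false

namespace Groth.Agent.Lib.Helper9.KummerLocal

theorem nonempty_addEquiv_zmod {G H : Type*} [AddCommGroup G] [AddCommGroup H] (n : ℕ)
    (δ : G →+ H) (hδ : Function.Surjective δ)
    (hker : ∀ u : G, δ u = 0 ↔ ∃ w : G, u = n • w)
    (g : G) (hgen : ∀ u : G, ∃ (w : G) (k : ℤ), u = n • w + k • g)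
    (hdvd : ∀ k : ℤ, (∃ w : G, k • g = n • w) → (n : ℤ) ∣ k) :
    Nonempty (H ≃+ ZMod n) := by
  let φ : ℤ →+ H := δ.comp (zmultiplesHom G g)
  have hφ : ∀ k : ℤ, φ k = δ (k • g) := fun k => rfl
  have hsurj : Function.Surjective φ := by
    intro h
    obtain ⟨u, rfl⟩ := hδ h
    obtain ⟨w, k, rfl⟩ := hgen u
    refine ⟨k, ?_⟩
    rw [hφ, map_add]
    have : δ (n • w) = 0 := (hker _).2 ⟨w, rfl⟩
    rw [this, zero_add]
  have hkerφ : φ.ker = AddSubgroup.zmultiples (n : ℤ) := by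
    ext k
    rw [AddMonoidHom.mem_ker, hφ, hker, Int.mem_zmultiples_iff]
    constructor
    · intro h
      exact hdvd k h
    · rintro ⟨l, rfl⟩
      refine ⟨l • g, ?_⟩
      rw [mul_smul, natCast_zsmul]
  exact ⟨((QuotientAddGroup.quotientKerEquivOfSurjective φ hsurj).symm.trans
    (QuotientAddGroup.quotientAddEquivOfEq hkerφ)).trans (Int.quotientZMultiplesNatEquivZMod n)⟩

end Groth.Agent.Lib.Helper9.KummerLocal
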