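import Mathlib
import Groth.Prelude.Def_EtGm
import Groth.Prelude.Def_EtCore
import Groth.Agent.S3244
import Groth.Agent.Lib.Helper43.MuSheaf

/-!
# The Kummer boundary `H⁰(X, G_m) → H¹(X, μ_n)` (helper9)
-/

set_option autoImplicit false
universe u

open CategoryTheory CategoryTheory.Limits AlgebraicGeometry Opposite CategoryTheory.Abelian

namespace Groth.Agent.Lib.Helper9.KummerLocal

open Groth.Agent.Lib.Helper43.MuConst

variable (X : Scheme.{u}) (n : ℕ)

/-- The Kummer boundary map is surjective with kernel `n • H⁰(G_m)` when `H¹(X, G_m) = 0`. -/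
theorem exists_boundary (hn : IsUnit (n : Γ(X, ⊤)))
    (hPic : Subsingleton (EtCoh.H X (EtCoh.Gm X) 1)) :
    ∃ δ : EtCoh.H X (EtCoh.Gm X) 0 →+ EtCoh.H X (EtCoh.mu X n) 1, Function.Surjective δ ∧
      ∀ u, δ u = 0 ↔ ∃ w : EtCoh.H X (EtCoh.Gm X) 0, u = n • w := by
  have hS := Groth.Agent.S3244.kummerSC_shortExact X n hn
  have hadd : (EtCoh.HF X 0).Additive := by unfold EtCoh.HF; infer_instance
  have hpow : ∀ ξ : (EtCoh.HF X 0).obj (EtCoh.Gm X),
      (EtCoh.HF X 0).map (EtCoh.powMap X n) ξ = n • ξ := by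
    intro ξ
    have : (EtCoh.HF X 0).map (EtCoh.powMap X n) = n • 𝟙 _ := by
      unfold EtCoh.powMap
      rw [Functor.map_nsmul, CategoryTheory.Functor.map_id]
    rw [this]
    simp
  refine ⟨hS.extClass.postcomp _ (zero_add 1), ?_, ?_⟩
  · intro x₁
    have h0 : x₁.comp (Ext.mk₀ (Groth.Agent.S3244.kummerSC X n).f) (add_zero 1) = 0 :=
      Subsingleton.elim (h := hPic) _ _
    obtain ⟨x₃, hx₃⟩ := Ext.covariant_sequence_exact₁ _ hS x₁ h0 (zero_add 1)
    exact ⟨x₃, hx₃⟩
  · intro u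
    constructor
    · intro hu
      obtain ⟨x₂, hx₂⟩ := Ext.covariant_sequence_exact₃ _ hS u (zero_add 1) hu
      refine ⟨x₂, ?_⟩
      rw [← hx₂]
      exact hpow x₂
    · rintro ⟨w, rfl⟩
      let w' : Ext _ (Groth.Agent.S3244.kummerSC X n).X₂ 0 := w
      have h1 : n • w = w'.comp (Ext.mk₀ (Groth.Agent.S3244.kummerSC X n).g) (add_zero 0) :=
        (hpow w).symm
      change (n • w).comp hS.extClass (zero_add 1) = 0
      calc (n • w).comp hS.extClass (zero_add 1)
          = (w'.comp (Ext.mk₀ (Groth.Agent.S3244.kummerSC X n).g) (add_zero 0)).comp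
              hS.extClass (zero_add 1) :=
            congrArg (fun z => z.comp hS.extClass (zero_add 1)) h1
        _ = w'.comp ((Ext.mk₀ (Groth.Agent.S3244.kummerSC X n).g).comp hS.extClass (zero_add 1))
              (zero_add 1) := Ext.comp_assoc_of_second_deg_zero _ _ _ _
        _ = 0 := by rw [hS.comp_extClass, Ext.comp_zero]

/-- Sections of `G_m` over the terminal object, as units of global functions. -/
noncomputable def gmTopEquiv : (EtCoh.Gm X).obj.obj (op (EtCoh.top X)) ≃+ Additive (Γ(X, ⊤))ˣ where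
  toFun s := Additive.ofMul (unGm (S := X) (U := EtCoh.top X) s)
  invFun a := mkGm (S := X) (U := EtCoh.top X) (Additive.toMul a)
  left_inv s := rfl
  right_inv a := rfl
  map_add' s t := rfl

/-- `H⁰(X, G_m)` is the group of units of the global functions. -/
noncomputable def h0GmEquiv : EtCoh.H X (EtCoh.Gm X) 0 ≃+ Additive (Γ(X, ⊤))ˣ :=
  (Sheaf.H.equiv₀ (EtCoh.Gm X) (EtCore.topIsTerminal X)).trans (gmTopEquiv X)

end Groth.Agent.Lib.Helper9.KummerLocal
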