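import Mathlib

/-!
# Units of `A[1/x]` modulo `n`-th powers, `A` a strictly henselian factorial local ring (helper9)
-/

set_option autoImplicit false

open IsLocalRing Polynomial

namespace Groth.Agent.Lib.Helper9.KummerLocal

/-- In a henselian local ring with separably closed residue field, every unit is an `n`-th power
when `n` is invertible. -/
theorem exists_pow_eq_of_henselian {A : Type*} [CommRing A] [HenselianLocalRing A]
    [IsSepClosed (ResidueField A)] (n : ℕ) (hn : IsUnit (n : A)) (u : Aˣ) :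
    ∃ c : Aˣ, c ^ n = u := by
  have hn0 : n ≠ 0 := by
    rintro rfl
    simp at hn
  haveI : NeZero ((n : ℕ) : ResidueField A) := by
    constructor
    have h := hn.map (residue A)
    rw [map_natCast] at h
    exact h.ne_zero
  obtain ⟨z, hz⟩ := IsSepClosed.exists_pow_nat_eq (residue A (u : A)) n
  obtain ⟨a₀, rfl⟩ := residue_surjective z
  have hu : IsUnit (residue A (u : A)) := u.isUnit.map _
  have ha₀ : IsUnit a₀ := by
    by_contra hnu
    have hm : a₀ ∈ maximalIdeal A := (mem_maximalIdeal _).2 hnu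
    rw [← residue_eq_zero_iff] at hm
    rw [hm, zero_pow hn0] at hz
    exact hu.ne_zero hz.symm
  have hmonic : (X ^ n - C (u : A)).Monic := monic_X_pow_sub_C _ hn0
  have heval : (X ^ n - C (u : A)).eval a₀ ∈ maximalIdeal A := by
    rw [eval_sub, eval_pow, eval_X, eval_C, ← residue_eq_zero_iff, map_sub, map_pow, hz, sub_self]
  have hder : IsUnit ((derivative (X ^ n - C (u : A))).eval a₀) := by
    rw [derivative_sub, derivative_C, sub_zero, derivative_X_pow, eval_mul, eval_C, eval_pow,
      eval_X]
    exact hn.mul (ha₀.pow _)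
  obtain ⟨a, hroot, ha⟩ := HenselianLocalRing.is_henselian _ hmonic a₀ heval hder
  have hpow : a ^ n = (u : A) := by
    have := hroot
    rw [IsRoot.def, eval_sub, eval_pow, eval_X, eval_C, sub_eq_zero] at this
    exact this
  have hau : IsUnit a := by
    have : IsUnit (a ^ n) := by rw [hpow]; exact u.isUnit
    exact (isUnit_pow_iff hn0).1 this
  refine ⟨hau.unit, ?_⟩
  apply Units.ext
  rw [Units.val_pow_eq_pow_val, IsUnit.unit_spec, hpow]

/-- An element of `𝔪 ∖ 𝔪²` of a local UFD is prime. -/
theorem prime_of_mem_of_notMem_sq {A : Type*} [CommRing A] [IsLocalRing A] [IsDomain A]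
    [UniqueFactorizationMonoid A] (x : A) (hx : x ∈ maximalIdeal A)
    (hx2 : x ∉ maximalIdeal A ^ 2) : Prime x := by
  rw [← UniqueFactorizationMonoid.irreducible_iff_prime]
  refine ⟨(mem_maximalIdeal _).1 hx, ?_⟩
  intro a b hab
  by_contra hcon
  rw [not_or] at hcon
  apply hx2
  rw [hab, pow_two]
  exact Ideal.mul_mem_mul ((mem_maximalIdeal _).2 hcon.1) ((mem_maximalIdeal _).2 hcon.2)

section Away

variable {A : Type*} [CommRing A] [IsDomain A] (x : A) (R : Type*) [CommRing R] [Algebra A R]
  [IsLocalization.Away x R]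

/-- `x` as a unit of `A[1/x]`. -/
noncomputable def xUnit : Rˣ := (IsLocalization.Away.algebraMap_isUnit (S := R) x).unit

@[simp] theorem xUnit_val : ((xUnit x R : Rˣ) : R) = algebraMap A R x := rfl

theorem algebraMap_injective_away (hx0 : x ≠ 0) : Function.Injective (algebraMap A R) :=
  IsLocalization.injective R (M := Submonoid.powers x)
    (powers_le_nonZeroDivisors_of_noZeroDivisors hx0)

/-- Every unit of `A[1/x]`, `x` prime, is a unit of `A` times a power of `x`. -/
theorem exists_unit_mul_zpow (hx : Prime x) (u : Rˣ) :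
    ∃ (a : Aˣ) (m : ℤ), u = Units.map (algebraMap A R).toMonoidHom a * xUnit x R ^ m := by
  have hinj := algebraMap_injective_away x R hx.ne_zero
  obtain ⟨⟨b, ⟨_, k, rfl⟩⟩, hb⟩ := IsLocalization.surj (Submonoid.powers x) (u : R)
  obtain ⟨⟨c, ⟨_, l, rfl⟩⟩, hc⟩ := IsLocalization.surj (Submonoid.powers x) ((u⁻¹ : Rˣ) : R)
  simp only [map_pow] at hb hc
  have hbc : b * c = x ^ (k + l) := by
    apply hinj
    have huu : (u : R) * ((u⁻¹ : Rˣ) : R) = 1 := by simp
    calc algebraMap A R (b * c)
        = ((u : R) * algebraMap A R x ^ k) * (((u⁻¹ : Rˣ) : R) * algebraMap A R x ^ l) := by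
          rw [map_mul, hb, hc]
      _ = ((u : R) * ((u⁻¹ : Rˣ) : R)) * (algebraMap A R x ^ k * algebraMap A R x ^ l) := by ring
      _ = algebraMap A R (x ^ (k + l)) := by rw [huu, one_mul, map_pow, pow_add]
  obtain ⟨i, _, hi⟩ := (dvd_prime_pow hx (k + l)).1 ⟨c, hbc.symm⟩
  obtain ⟨a, ha⟩ := hi.symm
  -- `x ^ i * a = b`
  refine ⟨a, (i : ℤ) - k, ?_⟩
  apply Units.ext
  have hxk : IsUnit (algebraMap A R x ^ k) :=
    (IsLocalization.Away.algebraMap_isUnit (S := R) x).pow k
  apply hxk.mul_left_injective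
  simp only
  have hval : ((Units.map (algebraMap A R).toMonoidHom a * xUnit x R ^ ((i : ℤ) - k) : Rˣ) : R) *
      algebraMap A R x ^ k = algebraMap A R b := by
    have e1 : (xUnit x R ^ ((i : ℤ) - k) : Rˣ) * xUnit x R ^ k = xUnit x R ^ i := by
      rw [← zpow_natCast (xUnit x R) k, ← zpow_add, sub_add_cancel, zpow_natCast]
    have e2 := congrArg Units.val e1
    simp only [Units.val_mul, Units.val_pow_eq_pow_val, xUnit_val] at e2
    rw [Units.val_mul, mul_assoc, e2, ← ha, map_mul, map_pow, mul_comm]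
    rfl
  rw [hb, hval]

/-- A power of `x` which is (the image of) a unit of `A` is the trivial power. -/
theorem zpow_eq_zero_of_eq_unit (hx : Prime x) (m : ℤ) (a : Aˣ)
    (h : xUnit x R ^ m = Units.map (algebraMap A R).toMonoidHom a) : m = 0 := by
  have hinj := algebraMap_injective_away x R hx.ne_zero
  have hnu : ¬ IsUnit x := hx.not_unit
  have key : ∀ (j : ℕ) (b : Aˣ), xUnit x R ^ j = Units.map (algebraMap A R).toMonoidHom b →
      j = 0 := by
    intro j b hj
    by_contra hj0
    apply hnu
    have h1 : algebraMap A R (x ^ j) = algebraMap A R (b : A) := by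
      have := congrArg Units.val hj
      simpa using this
    have h2 : x ^ j = (b : A) := hinj h1
    have : IsUnit (x ^ j) := by rw [h2]; exact b.isUnit
    exact (isUnit_pow_iff hj0).1 this
  rcases Int.eq_nat_or_neg m with ⟨j, rfl | rfl⟩
  · have := key j a (by simpa using h)
    simp [this]
  · have h' : xUnit x R ^ j = Units.map (algebraMap A R).toMonoidHom a⁻¹ := by
      rw [map_inv, ← h, zpow_neg, inv_inv, zpow_natCast]
    have := key j a⁻¹ h'
    simp [this]

end Away

/-- The two hypotheses of the abstract criterion for the group of units of `A[1/x]`. -/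
theorem units_away_spec {A : Type*} [CommRing A] [HenselianLocalRing A] [IsDomain A]
    [UniqueFactorizationMonoid A] [IsSepClosed (ResidueField A)] (x : A)
    (hx : x ∈ maximalIdeal A) (hx2 : x ∉ maximalIdeal A ^ 2) (n : ℕ) (hn : IsUnit (n : A))
    (R : Type*) [CommRing R] [Algebra A R] [IsLocalization.Away x R] :
    (∀ u : Additive Rˣ, ∃ (w : Additive Rˣ) (k : ℤ),
      u = n • w + k • Additive.ofMul (xUnit x R)) ∧
    (∀ k : ℤ, (∃ w : Additive Rˣ, k • Additive.ofMul (xUnit x R) = n • w) → (n : ℤ) ∣ k) := by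
  have hp : Prime x := prime_of_mem_of_notMem_sq x hx hx2
  have hn0 : n ≠ 0 := by
    rintro rfl
    simp at hn
  constructor
  · intro u
    obtain ⟨a, m, hu⟩ := exists_unit_mul_zpow x R hp (Additive.toMul u)
    obtain ⟨c, hc⟩ := exists_pow_eq_of_henselian n hn a
    refine ⟨Additive.ofMul (Units.map (algebraMap A R).toMonoidHom c * xUnit x R ^ (m / n)),
      m % n, ?_⟩
    apply Additive.toMul.injective
    rw [hu, ← hc]
    simp only [toMul_add, toMul_nsmul, toMul_ofMul, toMul_zsmul, map_pow, mul_pow]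
    rw [mul_assoc, ← zpow_natCast (xUnit x R ^ (m / (n : ℤ))) n, ← zpow_mul, ← zpow_add]
    congr 2
    rw [mul_comm]
    exact (Int.mul_ediv_add_emod m n).symm
  · rintro k ⟨w, hw⟩
    obtain ⟨a, m, hu⟩ := exists_unit_mul_zpow x R hp (Additive.toMul w)
    have h1 : xUnit x R ^ k = (Additive.toMul w) ^ n := by
      have := congrArg Additive.toMul hw
      simpa using this
    rw [hu, mul_pow, ← zpow_natCast (xUnit x R ^ m) n, ← zpow_mul] at h1
    have h2 : xUnit x R ^ (k - m * n) = Units.map (algebraMap A R).toMonoidHom (a ^ n) := by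
      rw [zpow_sub, h1, map_pow]
      simp
    have h3 := zpow_eq_zero_of_eq_unit x R hp _ _ h2
    exact ⟨m, by linarith⟩

end Groth.Agent.Lib.Helper9.KummerLocal
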